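import Groth.Agent.EtFound.Germ
import Groth.Agent.EtFound.CoprodSections
import Groth.Agent.EtBC.TorsionAcyclic
import Groth.Agent.SiteBase.AbSecExact
import Mathlib.AlgebraicGeometry.Morphisms.QuasiCompact

/-!
# Subsheaves of sections vanishing over a set of points
-/

set_option autoImplicit false
set_option linter.style.haveILetI false
universe u

open CategoryTheory CategoryTheory.Limits AlgebraicGeometry Opposite Topology

namespace Groth.Agent.DescCrit

open Groth.Agent.EtFound

set_option backward.isDefEq.respectTransparency.types false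

variable {X : Scheme.{u}} (F : EtCoh.Ab X)

/-- the section vanishes near `x` -/
def VanishAt {U : X.Etale} (t : F.obj.obj (op U)) (x : U.left) : Prop :=
  ∃ (V : X.Etale) (g : V ⟶ U) (v : V.left), g.left.base v = x ∧ F.obj.map g.op t = 0

variable {F}

/-- two étale neighbourhoods have a common one -/
theorem exists_square {U U' V : X.Etale} (g : V ⟶ U) (i : U' ⟶ U) (v : V.left) (u : U'.left)
    (h : i.left.base u = g.left.base v) :
    ∃ (W : X.Etale) (a : W ⟶ U') (b : W ⟶ V) (w : W.left), a.left.base w = u ∧ b.left.base w = v ∧ a ≫ i = b ≫ g := by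
  let i₀ : U'.left ⟶ U.left := i.left
  let g₀ : V.left ⟶ U.left := g.left
  haveI : AlgebraicGeometry.Etale g₀ := etale_left g
  haveI : AlgebraicGeometry.Etale U'.hom := U'.prop
  haveI : AlgebraicGeometry.Etale (pullback.fst i₀ g₀) := MorphismProperty.pullback_fst _ _ inferInstance
  obtain ⟨w, hw₁, hw₂⟩ := Scheme.Pullback.exists_preimage_pullback (f := i₀) (g := g₀) u v h
  let W : X.Etale := Scheme.Etale.mk (pullback.fst i₀ g₀ ≫ U'.hom)
  let a : W ⟶ U' := MorphismProperty.Over.homMk (pullback.fst i₀ g₀) rfl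
  let b : W ⟶ V := MorphismProperty.Over.homMk (pullback.snd i₀ g₀) (by
    show pullback.snd i₀ g₀ ≫ V.hom = pullback.fst i₀ g₀ ≫ U'.hom
    rw [← MorphismProperty.Over.w g, ← MorphismProperty.Over.w i, ← Category.assoc, ← Category.assoc]
    exact congrArg (· ≫ U.hom) pullback.condition.symm)
  exact ⟨W, a, b, w, hw₁, hw₂, MorphismProperty.Over.Hom.ext pullback.condition⟩

theorem map_map_apply {U V W : X.Etale} (a : W ⟶ V) (b : V ⟶ U) (t : F.obj.obj (op U)) :
    F.obj.map a.op (F.obj.map b.op t) = F.obj.map (a ≫ b).op t := by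
  rw [op_comp, Functor.map_comp]
  rfl

theorem VanishAt.map {U U' : X.Etale} {t : F.obj.obj (op U)} (i : U' ⟶ U) (u : U'.left)
    (h : VanishAt F t (i.left.base u)) : VanishAt F (F.obj.map i.op t) u := by
  obtain ⟨V, g, v, hv, h0⟩ := h
  obtain ⟨W, a, b, w, hw, -, e⟩ := exists_square g i v u hv.symm
  refine ⟨W, a, w, hw, ?_⟩
  rw [map_map_apply, e, ← map_map_apply, h0, map_zero]

theorem VanishAt.of_map {U U' : X.Etale} {t : F.obj.obj (op U)} (i : U' ⟶ U) (u : U'.left)
    (h : VanishAt F (F.obj.map i.op t) u) : VanishAt F t (i.left.base u) := by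
  obtain ⟨V, g, v, hv, h0⟩ := h
  refine ⟨V, g ≫ i, v, (Scheme.Hom.comp_apply g.left i.left v).trans (congrArg i.left.base hv), ?_⟩
  rw [← map_map_apply, h0]

theorem isOpen_vanishAt {U : X.Etale} (t : F.obj.obj (op U)) : IsOpen {x : U.left | VanishAt F t x} := by
  refine isOpen_iff_forall_mem_open.2 fun x hx => ?_
  obtain ⟨V, g, v, hv, h0⟩ := hx
  let g₀ : V.left ⟶ U.left := g.left
  haveI : AlgebraicGeometry.Etale g₀ := etale_left g
  refine ⟨Set.range g₀.base, ?_, g₀.isOpenMap.isOpen_range, v, hv⟩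
  rintro _ ⟨w, rfl⟩
  exact ⟨V, g, w, rfl, h0⟩

variable (F)

/-- sections vanishing over a set of points -/
def vanSec (S : Set X) (U : X.Etale) : AddSubgroup (F.obj.obj (op U)) where
  carrier := {t | ∀ x : U.left, U.hom.base x ∈ S → VanishAt F t x}
  zero_mem' := fun x _ => ⟨U, 𝟙 U, x, rfl, map_zero _⟩
  add_mem' := by
    intro s t hs ht x hx
    obtain ⟨V, g, v, hv, h0⟩ := hs x hx
    obtain ⟨V', g', v', hv', h0'⟩ := ht x hx
    obtain ⟨W, a, b, w, hw, -, e⟩ := exists_square g' g v' v (hv.trans hv'.symm)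
    refine ⟨W, a ≫ g, w, (Scheme.Hom.comp_apply a.left g.left w).trans ((congrArg g.left.base hw).trans hv), ?_⟩
    rw [map_add, ← map_map_apply a g s, h0, map_zero, e, ← map_map_apply b g' t, h0', map_zero, add_zero]
  neg_mem' := by
    intro s hs x hx
    obtain ⟨V, g, v, hv, h0⟩ := hs x hx
    exact ⟨V, g, v, hv, by rw [map_neg, h0, neg_zero]⟩

variable {F}

theorem hom_base {U V : X.Etale} (g : V ⟶ U) (v : V.left) : U.hom.base (g.left.base v) = V.hom.base v :=
  (Scheme.Hom.comp_apply g.left U.hom v).symm.trans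
    (congrArg (fun q : V.left ⟶ X => q.base v) (MorphismProperty.Over.w g))

theorem vanSec_map {S : Set X} {U V : X.Etale} (i : V ⟶ U) {t : F.obj.obj (op U)} (ht : t ∈ vanSec F S U) :
    F.obj.map i.op t ∈ vanSec F S V :=
  fun v hv => (ht (i.left.base v) (by rwa [hom_base])).map i v

variable (F)

/-- the presheaf of sections vanishing over a set -/
noncomputable def vanPre (S : Set X) : X.Etaleᵒᵖ ⥤ AddCommGrpCat.{u + 1} where
  obj U := AddCommGrpCat.of (vanSec F S U.unop)
  map i := AddCommGrpCat.ofHom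
    { toFun := fun t => ⟨F.obj.map i t.1, vanSec_map i.unop t.2⟩
      map_zero' := Subtype.ext (map_zero _)
      map_add' := fun s t => Subtype.ext (map_add _ _ _) }
  map_id U := by
    ext t
    show (F.obj.map (𝟙 U)) t.1 = t.1
    rw [CategoryTheory.Functor.map_id]
    rfl
  map_comp i k := by
    ext t
    show (F.obj.map (i ≫ k)) t.1 = (F.obj.map k) ((F.obj.map i) t.1)
    rw [Functor.map_comp]
    rfl

theorem isSheaf_vanPre (S : Set X) : Presheaf.IsSheaf X.smallEtaleTopology (vanPre F S) := by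
  have hF := ((isSheaf_iff_isSheaf_of_type _ _).1
    ((Presheaf.isSheaf_iff_isSheaf_forget X.smallEtaleTopology F.obj (forget AddCommGrpCat.{u + 1})).1 F.2))
  refine (Presheaf.isSheaf_iff_isSheaf_forget _ _ (forget AddCommGrpCat.{u + 1})).2
    ((isSheaf_iff_isSheaf_of_type _ _).2 fun U R hR x hx => ?_)
  let y : Presieve.FamilyOfElements (F.obj ⋙ forget AddCommGrpCat.{u + 1}) R.arrows :=
    fun V f hf => (show ↥(vanSec F S V) from x f hf).1
  have hy : y.Compatible := fun Y₁ Y₂ Z g₁ g₂ f₁ f₂ h₁ h₂ e => congrArg Subtype.val (hx g₁ g₂ h₁ h₂ e)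
  obtain ⟨s, hs, huniq⟩ := hF R hR y hy
  have ht : s ∈ vanSec F S U := fun u hu => by
    obtain ⟨V, g, v, hg, rfl⟩ := (mem_topology_iff _).1 hR u
    refine VanishAt.of_map g v ?_
    have e : F.obj.map g.op s = y g hg := hs g hg
    rw [e]
    exact (show ↥(vanSec F S V) from x g hg).2 v (by rwa [← hom_base g])
  refine ⟨⟨s, ht⟩, fun V f hf => Subtype.ext (hs f hf), fun z hz => Subtype.ext (huniq _ ?_)⟩
  exact fun V f hf => congrArg Subtype.val (hz f hf)

/-- the subsheaf of sections vanishing over a set -/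
noncomputable def vanSh (S : Set X) : EtCoh.Ab X := ⟨vanPre F S, isSheaf_vanPre F S⟩

/-- the inclusion -/
noncomputable def vanIncl (S : Set X) : vanSh F S ⟶ F :=
  ⟨{ app := fun U => AddCommGrpCat.ofHom (vanSec F S U.unop).subtype }⟩

instance mono_vanIncl (S : Set X) : Mono (vanIncl F S) := by
  refine ⟨fun {Z} a b e => CategoryTheory.Sheaf.hom_ext (NatTrans.ext (funext fun U => ?_))⟩
  ext t
  exact Subtype.ext (congrArg (fun q => (q.hom.app U).hom t) e)

variable {F}

/-- maps with sections in the subgroups factor -/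
noncomputable def vanLift {S : Set X} {T : EtCoh.Ab X} (φ : T ⟶ F)
    (h : ∀ U (t : T.obj.obj (op U)), φ.hom.app (op U) t ∈ vanSec F S U) : T ⟶ vanSh F S :=
  ⟨{ app := fun U => AddCommGrpCat.ofHom
      { toFun := fun t => ⟨φ.hom.app U t, h U.unop t⟩
        map_zero' := Subtype.ext (map_zero _)
        map_add' := fun s t => Subtype.ext (map_add _ _ _) }
     naturality := fun U V i => by
      ext t
      exact Subtype.ext (ConcreteCategory.congr_hom (φ.hom.naturality i) t) }⟩

theorem vanLift_incl {S : Set X} {T : EtCoh.Ab X} (φ : T ⟶ F)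
    (h : ∀ U (t : T.obj.obj (op U)), φ.hom.app (op U) t ∈ vanSec F S U) : vanLift φ h ≫ vanIncl F S = φ := rfl

/-- sections vanishing everywhere are zero -/
theorem eq_zero_of_vanishAt {U : X.Etale} (t : F.obj.obj (op U)) (h : ∀ x : U.left, VanishAt F t x) : t = 0 := by
  choose V g v hv h0 using h
  refine (isSheafFor_of_covers F V g fun x => ⟨x, v x, hv x⟩).isSeparatedFor.ext fun W w hw => ?_
  obtain ⟨i⟩ := hw
  show F.obj.map (g i).op t = F.obj.map (g i).op 0
  rw [map_zero, h0]

theorem vanSec_univ {U : X.Etale} {t : F.obj.obj (op U)} (ht : t ∈ vanSec F Set.univ U) : t = 0 :=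
  eq_zero_of_vanishAt t fun x => ht x trivial

variable (F)

/-- the quotient by the sections vanishing over a set -/
noncomputable abbrev vanQ (S : Set X) : EtCoh.Ab X := cokernel (vanIncl F S)

/-- smaller sets give smaller quotients -/
noncomputable def vanQMap {S S' : Set X} (h : S ⊆ S') : vanQ F S' ⟶ vanQ F S :=
  cokernel.desc _ (cokernel.π (vanIncl F S)) (by
    rw [← vanLift_incl (vanIncl F S') (S := S) fun U t x hx => (show ↥(vanSec F S' U) from t).2 x (h hx),
      Category.assoc, cokernel.condition, comp_zero])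

@[reassoc]
theorem π_vanQMap {S S' : Set X} (h : S ⊆ S') : cokernel.π (vanIncl F S') ≫ vanQMap F h = cokernel.π (vanIncl F S) :=
  cokernel.π_desc _ _ _

variable {F}

/-- a map killing exactly the sections of a subsheaf induces a monomorphism on the quotient -/
theorem mono_desc {S : Set X} {P : EtCoh.Ab X} (a : F ⟶ P) (h : vanIncl F S ≫ a = 0)
    (hker : ∀ U (t : F.obj.obj (op U)), a.hom.app (op U) t = 0 → t ∈ vanSec F S U) :
    Mono (cokernel.desc (vanIncl F S) a h) := by
  refine ShortComplex.Exact.mono_cokernelDesc (S := ShortComplex.mk _ a h) ?_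
  refine ShortComplex.exact_of_f_is_kernel _ (KernelFork.IsLimit.ofι _ h
    (fun {W} k hk => vanLift k fun U t => hker U _
      (ConcreteCategory.congr_hom (congrArg (fun q : W ⟶ P => q.hom.app (op U)) hk) t))
    (fun {W} k hk => vanLift_incl k _)
    (fun {W} k hk m hm => (cancel_mono (vanIncl F S)).1 (hm.trans (vanLift_incl k _).symm)))

/-- the kernel of the quotient map -/
theorem π_app_eq_zero_iff {S : Set X} {U : X.Etale} (t : F.obj.obj (op U)) :
    (cokernel.π (vanIncl F S)).hom.app (op U) t = 0 ↔ t ∈ vanSec F S U := by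
  let E := ShortComplex.mk (vanIncl F S) (cokernel.π _) (cokernel.condition _)
  haveI : Mono E.f := mono_vanIncl F S
  have hE : E.Exact := ShortComplex.exact_of_g_is_cokernel _ (cokernelIsCokernel _)
  constructor
  · intro h
    obtain ⟨y, hy⟩ := (SiteBase.secExact_iff E U).1 (hE.map_of_mono_of_preservesKernel
      (sheafToPresheaf X.smallEtaleTopology AddCommGrpCat.{u + 1} ⋙
        (evaluation X.Etaleᵒᵖ AddCommGrpCat.{u + 1}).obj (op U)) inferInstance inferInstance) t h
    rw [← hy]
    exact (show ↥(vanSec F S U) from y).2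
  · intro h
    exact ConcreteCategory.congr_hom (congrArg (fun q : vanSh F S ⟶ vanQ F S => q.hom.app (op U))
      (cokernel.condition (vanIncl F S))) (⟨t, h⟩ : vanSec F S U)

variable {ι : Type (u + 1)} [Preorder ι]

/-- the quotients for an antitone family -/
noncomputable def vanSys (F : EtCoh.Ab X) (S : ι → Set X) (hS : Antitone S) : ι ⥤ EtCoh.Ab X where
  obj i := vanQ F (S i)
  map m := vanQMap F (hS (leOfHom m))
  map_id i := (cancel_epi (cokernel.π _)).1 ((π_vanQMap F _).trans (Category.comp_id _).symm)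
  map_comp f g := (cancel_epi (cokernel.π _)).1 (by rw [π_vanQMap, π_vanQMap_assoc, π_vanQMap])

/-- the cocone to the quotient for a smaller set -/
noncomputable def vanCocone (F : EtCoh.Ab X) (S : ι → Set X) (hS : Antitone S) (T : Set X) (hT : ∀ i, T ⊆ S i) :
    Cocone (vanSys F S hS) where
  pt := vanQ F T
  ι := { app := fun i => vanQMap F (hT i)
         naturality := fun i j m => (cancel_epi (cokernel.π _)).1 (by
          dsimp [vanSys]
          rw [π_vanQMap_assoc, π_vanQMap, Category.comp_id, π_vanQMap]) }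

/-- the quotient for the smaller set is the colimit -/
theorem nonempty_isColimit_vanCocone [IsDirected ι (· ≤ ·)] [Nonempty ι] (S : ι → Set X) (hS : Antitone S) (T : Set X)
    (hT : ∀ i, T ⊆ S i)
    (hqc : ∀ U : X.Etale, IsAffine U.left → ∀ O : Set U.left, IsOpen O → (∀ x, U.hom.base x ∈ T → x ∈ O) →
      ∃ i, ∀ x, U.hom.base x ∈ S i → x ∈ O) :
    Nonempty (IsColimit (vanCocone F S hS T hT)) := by
  have hc : ∀ (c : Cocone (vanSys F S hS)) (i j : ι),
      cokernel.π (vanIncl F (S i)) ≫ c.ι.app i = cokernel.π (vanIncl F (S j)) ≫ c.ι.app j := by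
    intro c i j
    obtain ⟨k, hi, hj⟩ := exists_ge_ge i j
    rw [← c.w (homOfLE hi), ← c.w (homOfLE hj)]
    exact (π_vanQMap_assoc F (hS hi) (c.ι.app k)).trans (π_vanQMap_assoc F (hS hj) (c.ι.app k)).symm
  let i₀ := Classical.arbitrary ι
  have hkill : ∀ c : Cocone (vanSys F S hS),
      vanIncl F T ≫ cokernel.π (vanIncl F (S i₀)) ≫ c.ι.app i₀ = 0 := by
    intro c
    let a : F ⟶ c.pt := cokernel.π (vanIncl F (S i₀)) ≫ c.ι.app i₀
    refine CategoryTheory.Sheaf.hom_ext (NatTrans.ext (funext fun U => ?_))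
    ext t
    show a.hom.app U (show ↥(vanSec F T U.unop) from t).1 = 0
    refine eq_zero_of_vanishAt _ fun x => ?_
    obtain ⟨A, hA, hxA, -⟩ := exists_isAffineOpen_mem_and_subset (U := (⊤ : U.unop.left.Opens)) (x := x) trivial
    let W := restrictEtale U.unop A
    let r : W ⟶ U.unop := restrictEtaleHom U.unop A
    let t₁ : F.obj.obj (op W) := F.obj.map r.op (show ↥(vanSec F T U.unop) from t).1
    obtain ⟨i, hi⟩ := hqc W hA {y | VanishAt F t₁ y} (isOpen_vanishAt t₁)
      fun y hy => vanSec_map r (show ↥(vanSec F T U.unop) from t).2 y hy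
    refine ⟨W, r, ⟨x, hxA⟩, rfl, ?_⟩
    rw [← NatTrans.naturality_apply]
    have ha : a = cokernel.π (vanIncl F (S i)) ≫ c.ι.app i := hc c i₀ i
    rw [ha]
    show (c.ι.app i).hom.app (op W) ((cokernel.π (vanIncl F (S i))).hom.app (op W) t₁) = 0
    exact (congrArg _ ((π_app_eq_zero_iff t₁).2 fun y hy => hi y hy)).trans (map_zero _)
  refine ⟨{ desc := fun c => cokernel.desc _ _ (hkill c), fac := fun c i => ?_, uniq := fun c m hm => ?_ }⟩
  · refine (cancel_epi (cokernel.π (vanIncl F (S i)))).1 ?_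
    exact (π_vanQMap_assoc F (hT i) _).trans ((cokernel.π_desc _ _ _).trans (hc c i₀ i))
  · refine (cancel_epi (cokernel.π (vanIncl F T))).1 ?_
    rw [cokernel.π_desc, ← hm i₀]
    exact (π_vanQMap_assoc F (hT i₀) m).symm

/-- a point of the closure of the image of a closed set is a specialization of the image -/
theorem exists_specializes_of_mem_closure_image {U : Scheme.{u}} (f : U ⟶ X) [QuasiCompact f] (C : Set U)
    (hC : IsClosed C) (x : X) (hx : x ∈ closure (f.base '' C)) : ∃ c ∈ C, f.base c ⤳ x := by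
  obtain ⟨_, ⟨W, hW, rfl⟩, hxW, -⟩ := X.isBasis_affineOpens.exists_subset_of_mem_open (Set.mem_univ x) isOpen_univ
  replace hW : IsAffineOpen W := hW
  obtain ⟨R, k, hk⟩ := (isCompact_iff_exists (U := f ⁻¹ᵁ W)).1
    (QuasiCompact.isCompact_preimage (f := f) _ W.2 hW.isCompact)
  haveI : IsOpenImmersion hW.fromSpec := hW.isOpenImmersion_fromSpec
  let g : Spec R ⟶ Spec Γ(X, W) := IsOpenImmersion.lift hW.fromSpec (k ≫ f) (by
    rintro _ ⟨r, rfl⟩
    rw [hW.range_fromSpec]
    show (k ≫ f).base r ∈ (W : Set X)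
    rw [Scheme.Hom.comp_apply]
    exact (hk.le ⟨r, rfl⟩ : k.base r ∈ f.base ⁻¹' (W : Set X)))
  have hg : g ≫ hW.fromSpec = k ≫ f := IsOpenImmersion.lift_fac _ _ _
  obtain ⟨p, rfl⟩ : x ∈ Set.range hW.fromSpec.base := by rw [hW.range_fromSpec]; exact hxW
  have hp : p ∈ closure (g.base '' (k.base ⁻¹' C)) := by
    have h := hW.fromSpec.isOpenEmbedding.isOpenMap.preimage_closure_eq_closure_preimage
      hW.fromSpec.continuous (f.base '' C)
    have h' : p ∈ closure (hW.fromSpec.base ⁻¹' (f.base '' C)) := h ▸ hx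
    refine closure_mono ?_ h'
    rintro q ⟨c, hc, hcq⟩
    obtain ⟨r, rfl⟩ : c ∈ Set.range k.base := hk.ge (by
      show f.base c ∈ (W : Set X)
      rw [hcq, ← hW.range_fromSpec]
      exact ⟨q, rfl⟩)
    refine ⟨r, hc, hW.fromSpec.isOpenEmbedding.injective ?_⟩
    rw [← Scheme.Hom.comp_apply, hg, Scheme.Hom.comp_apply]
    exact hcq
  obtain ⟨φ, hφ⟩ := Spec.homEquiv.symm.surjective g
  obtain ⟨I, hI⟩ := (PrimeSpectrum.isClosed_iff_zeroLocus_ideal _).1 (hC.preimage k.continuous)
  have hp' : p ∈ PrimeSpectrum.zeroLocus (I.comap φ.hom : Set Γ(X, W)) := by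
    refine (PrimeSpectrum.isClosed_zeroLocus _).closure_subset_iff.2 ?_ hp
    rintro _ ⟨q, hq, rfl⟩
    rw [hI] at hq
    rw [← hφ]
    exact Ideal.comap_mono hq
  obtain ⟨q, hqI, hq, hqle⟩ := p.asIdeal.exists_ideal_comap_le_prime I hp'
  refine ⟨k.base ⟨q, hq⟩, (by show (⟨q, hq⟩ : PrimeSpectrum R) ∈ k.base ⁻¹' C; rw [hI]; exact hqI), ?_⟩
  rw [← Scheme.Hom.comp_apply, ← hg, Scheme.Hom.comp_apply]
  refine Specializes.map ?_ hW.fromSpec.continuous
  rw [← hφ]
  exact (PrimeSpectrum.le_iff_specializes ⟨q.comap φ.hom, inferInstance⟩ p).mp hqle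

end Groth.Agent.DescCrit
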