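import Groth.Agent.DescCrit.Point
import Groth.Agent.DescCrit.Vanish
import Groth.Agent.EtBC.CompNSurj
import Groth.Agent.EtBC.CompNKilled
import Groth.Agent.EtFound.GermSupp
import Groth.Agent.BcMapZero.Et
import Groth.Agent.S1032
import Groth.Agent.TriCat.KInjRes

/-!
# The descent criterion for classes to come from the base
-/

set_option autoImplicit false
set_option linter.style.haveILetI false
universe u

open CategoryTheory CategoryTheory.Limits AlgebraicGeometry Opposite CategoryTheory.Abelian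

attribute [local instance] HasDerivedCategory.standard

namespace Groth.Agent.DescCrit

open Groth.Agent.EtLimit Groth.Agent.EtFound Groth.Agent.EtBC Groth.Agent.EtLC12

set_option backward.isDefEq.respectTransparency.types false
set_option maxHeartbeats 1000000

variable {X Y : Scheme.{u}}

/-- derived direct images exist -/
theorem hasRpushEt (f : X ⟶ Y) : DCoh.HasRpushEt X f := by
  haveI : (EtCoh.push f).Additive := (EtCoh.pullPushAdj f).right_adjoint_additive
  exact (Groth.Agent.S1032.result (A := EtCoh.Ab X) (fun K => by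
    obtain ⟨I, g, hI, hg, -, -⟩ := TriCat.exists_kInjective_resolution' K
    exact ⟨I, g, hI, hg⟩) (DCoh.pushEtKh X f)).1

theorem hmap_add_hom {F G : EtCoh.Ab X} (a b : F ⟶ G) (n : ℕ) (x : EtCoh.H X F n) :
    hmap (a + b) n x = hmap a n x + hmap b n x := by
  show Ext.comp x (Ext.mk₀ (a + b)) (add_zero n) = _
  rw [Ext.mk₀_add, Ext.comp_add]
  rfl

theorem symm_zero {C D : Type*} [Category* C] [Category* D] [Preadditive C] [Preadditive D] {G : C ⥤ D} {R : D ⥤ C}
    [G.Additive] (adj : G ⊣ R) (A : C) (B : D) : (adj.homEquiv A B).symm 0 = 0 := by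
  rw [Adjunction.homEquiv_counit, Functor.map_zero, zero_comp]

/-- a section with vanishing germ vanishes nearby -/
theorem vanishAt_of_germ {F : EtCoh.Ab X} {U : X.Etale} (t : F.obj.obj (op U)) {Ω : Type u} [Field Ω] [IsSepClosed Ω]
    {ζ : Spec (CommRingCat.of Ω) ⟶ X} (v : (Scheme.pointSmallEtale ζ).fiber.obj U)
    (h0 : (Scheme.pointSmallEtale ζ).toPresheafFiber U v F.obj t = 0) : VanishAt F t (ptOf v) := by
  rw [← map_zero ((Scheme.pointSmallEtale ζ).toPresheafFiber U v F.obj).hom] at h0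
  obtain ⟨V, f, w, hw, hf⟩ := ((Scheme.pointSmallEtale ζ).toPresheafFiber_eq_iff' U v _ _).1 h0
  rw [map_zero] at hf
  subst hw
  exact ⟨V, f, ptOf w, (ptOf_map f w).symm, hf⟩

theorem isLTorsion_biprod {L : Set ℕ} {A B : EtCoh.Ab X} (hA : EtAcyc.IsLTorsion L A) (hB : EtAcyc.IsLTorsion L B) :
    EtAcyc.IsLTorsion L (A ⊞ B) := by
  refine (S8525.result L _).2 fun Ω _ _ ζ t => ?_
  haveI : (EtCoh.stalk ζ).Additive := Functor.additive_of_preserves_binary_products _
  obtain ⟨m, hm, h₁⟩ := (S8525.result L A).1 hA Ω ζ ((EtCoh.stalk ζ).map (biprod.fst : A ⊞ B ⟶ A) t)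
  obtain ⟨m', hm', h₂⟩ := (S8525.result L B).1 hB Ω ζ ((EtCoh.stalk ζ).map (biprod.snd : A ⊞ B ⟶ B) t)
  refine ⟨m * m', ⟨Nat.mul_pos hm.1 hm'.1, fun p hp h => by
    rcases hp.dvd_mul.1 h with h | h
    exacts [hm.2 p hp h, hm'.2 p hp h]⟩, ?_⟩
  have ht : t = (EtCoh.stalk ζ).map (biprod.inl : A ⟶ A ⊞ B) ((EtCoh.stalk ζ).map (biprod.fst : A ⊞ B ⟶ A) t) +
      (EtCoh.stalk ζ).map (biprod.inr : B ⟶ A ⊞ B) ((EtCoh.stalk ζ).map (biprod.snd : A ⊞ B ⟶ B) t) := by
    have e := congrArg (fun q => (EtCoh.stalk ζ).map q) (biprod.total (X := A) (Y := B))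
    simp only [Functor.map_add, Functor.map_comp, CategoryTheory.Functor.map_id] at e
    exact (ConcreteCategory.congr_hom e t).symm
  refine (congrArg ((m * m') • ·) ht).trans ?_
  show (m * m') • (_ + _) = 0
  rw [nsmul_add]
  have z₁ : (m * m') • (EtCoh.stalk ζ).map (biprod.fst : A ⊞ B ⟶ A) t = 0 := by rw [mul_nsmul, h₁, nsmul_zero]
  have z₂ : (m * m') • (EtCoh.stalk ζ).map (biprod.snd : A ⊞ B ⟶ B) t = 0 := by rw [mul_nsmul', h₂, nsmul_zero]
  exact (congrArg₂ (· + ·) ((map_nsmul _ _ _).symm.trans ((congrArg _ z₁).trans (map_zero _)))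
    ((map_nsmul _ _ _).symm.trans ((congrArg _ z₂).trans (map_zero _)))).trans (add_zero 0)

/-- the class comes from the base modulo the sections vanishing over `S` -/
def Good (h : Y ⟶ X) [PreservesFiniteLimits (EtCoh.pull h)] (F : EtCoh.Ab X) (n : ℕ)
    (ξ : EtCoh.H Y ((EtCoh.pull h).obj F) (n + 1)) (S : Set X) : Prop :=
  hmap ((EtCoh.pull h).map (cokernel.π (vanIncl F S))) (n + 1) ξ ∈ Set.range (EtCore.Hpull h (vanQ F S) (n + 1))

variable {h : Y ⟶ X} [PreservesFiniteLimits (EtCoh.pull h)] {F : EtCoh.Ab X} {n : ℕ}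
  {ξ : EtCoh.H Y ((EtCoh.pull h).obj F) (n + 1)}

theorem good_empty : Good h F n ξ ∅ := by
  haveI : (EtCoh.pull h).Additive := Functor.additive_of_preserves_binary_products _
  have h0 : cokernel.π (vanIncl F ∅) = 0 := CategoryTheory.Sheaf.hom_ext (NatTrans.ext (funext fun U => by
    ext t
    exact (π_app_eq_zero_iff (U := U.unop) t).2 fun x hx => absurd hx (Set.notMem_empty _)))
  refine ⟨0, ?_⟩
  rw [map_zero, h0, Functor.map_zero]
  exact (hmap_zero_map (n + 1) ξ).symm

variable [CompactSpace X] [QuasiSeparatedSpace X] [CompactSpace Y] [QuasiSeparatedSpace Y]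
  {L : Set ℕ} (hcomp : EtAcyc.CompN h L n) (hF : EtAcyc.IsLTorsion L F)

include hcomp hF

theorem mem_range_of_good_univ (hg : Good h F n ξ Set.univ) : ξ ∈ Set.range (EtCore.Hpull h F (n + 1)) := by
  haveI : Mono (cokernel.π (vanIncl F Set.univ)) := by
    refine Preadditive.mono_of_cancel_zero _ fun {T} g hg => ?_
    refine CategoryTheory.Sheaf.hom_ext (NatTrans.ext (funext fun U => ?_))
    ext t
    exact vanSec_univ ((π_app_eq_zero_iff (U := U.unop) (g.hom.app U t)).1
      (ConcreteCategory.congr_hom (congrArg (fun q : T ⟶ vanQ F Set.univ => q.hom.app U) hg) t))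
  exact S8536.result h L n hcomp (cokernel.π (vanIncl F Set.univ)) hF (isLTorsion_of_epi (cokernel.π _) hF) ξ hg

theorem Good.union {S₁ S₂ : Set X} (h₁ : Good h F n ξ S₁) (h₂ : Good h F n ξ S₂) : Good h F n ξ (S₁ ∪ S₂) := by
  haveI : (EtCoh.pull h).Additive := Functor.additive_of_preserves_binary_products _
  let a : F ⟶ vanQ F S₁ ⊞ vanQ F S₂ := biprod.lift (cokernel.π (vanIncl F S₁)) (cokernel.π (vanIncl F S₂))
  have ha : vanIncl F (S₁ ∪ S₂) ≫ a = 0 := by
    refine biprod.hom_ext _ _ ?_ ?_ <;>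
      simp only [a, Category.assoc, biprod.lift_fst, biprod.lift_snd, zero_comp]
    · refine CategoryTheory.Sheaf.hom_ext (NatTrans.ext (funext fun U => ?_))
      ext t
      exact (π_app_eq_zero_iff (U := U.unop) _).2 fun x hx => (show ↥(vanSec F (S₁ ∪ S₂) U.unop) from t).2 x (Or.inl hx)
    · refine CategoryTheory.Sheaf.hom_ext (NatTrans.ext (funext fun U => ?_))
      ext t
      exact (π_app_eq_zero_iff (U := U.unop) _).2 fun x hx => (show ↥(vanSec F (S₁ ∪ S₂) U.unop) from t).2 x (Or.inr hx)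
  haveI hu : Mono (cokernel.desc (vanIncl F (S₁ ∪ S₂)) a ha) := mono_desc a ha fun U t ht x hx => by
    have e₁ : (cokernel.π (vanIncl F S₁)).hom.app (op U) t = 0 := by
      have e := ConcreteCategory.congr_hom (congrArg (fun q : F ⟶ vanQ F S₁ => q.hom.app (op U))
        (biprod.lift_fst (cokernel.π (vanIncl F S₁)) (cokernel.π (vanIncl F S₂)))) t
      exact e.symm.trans ((congrArg ((biprod.fst : _ ⟶ vanQ F S₁).hom.app (op U)) ht).trans
        ((biprod.fst : _ ⟶ vanQ F S₁).hom.app (op U)).hom.map_zero)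
    have e₂ : (cokernel.π (vanIncl F S₂)).hom.app (op U) t = 0 := by
      have e := ConcreteCategory.congr_hom (congrArg (fun q : F ⟶ vanQ F S₂ => q.hom.app (op U))
        (biprod.lift_snd (cokernel.π (vanIncl F S₁)) (cokernel.π (vanIncl F S₂)))) t
      exact e.symm.trans ((congrArg ((biprod.snd : _ ⟶ vanQ F S₂).hom.app (op U)) ht).trans
        ((biprod.snd : _ ⟶ vanQ F S₂).hom.app (op U)).hom.map_zero)
    rcases hx with hx | hx
    exacts [(π_app_eq_zero_iff t).1 e₁ x hx, (π_app_eq_zero_iff t).1 e₂ x hx]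
  refine S8536.result h L n hcomp (cokernel.desc (vanIncl F (S₁ ∪ S₂)) a ha) (isLTorsion_of_epi (cokernel.π _) hF)
    (isLTorsion_biprod (isLTorsion_of_epi (cokernel.π _) hF) (isLTorsion_of_epi (cokernel.π _) hF)) _ ?_
  obtain ⟨γ₁, hγ₁⟩ := h₁
  obtain ⟨γ₂, hγ₂⟩ := h₂
  refine ⟨hmap (biprod.inl : _ ⟶ vanQ F S₁ ⊞ vanQ F S₂) (n + 1) γ₁ +
    hmap (biprod.inr : _ ⟶ vanQ F S₁ ⊞ vanQ F S₂) (n + 1) γ₂, ?_⟩
  rw [map_add, Hpull_hmap, Hpull_hmap, hγ₁, hγ₂, hmap_comp, hmap_comp, ← Functor.map_comp, ← Functor.map_comp,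
    ← hmap_add_hom, ← Functor.map_add]
  refine Eq.trans ?_ (hmap_comp _ _ _ _).symm
  rw [← Functor.map_comp, cokernel.π_desc]
  refine congrArg (fun q => hmap ((EtCoh.pull h).map q) (n + 1) ξ) ?_
  exact (biprod.lift_eq (f := cokernel.π (vanIncl F S₁)) (g := cokernel.π (vanIncl F S₂))).symm

omit hcomp hF in
/-- the condition passes to limits of sets -/
theorem exists_good {ι : Type (u + 1)} [Preorder ι] [IsDirected ι (· ≤ ·)] [Nonempty ι] (S : ι → Set X)
    (hS : Antitone S) (T : Set X) (hT : ∀ i, T ⊆ S i)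
    (hqc : ∀ U : X.Etale, IsAffine U.left → ∀ O : Set U.left, IsOpen O → (∀ x, U.hom.base x ∈ T → x ∈ O) →
      ∃ i, ∀ x, U.hom.base x ∈ S i → x ∈ O)
    (hg : Good h F n ξ T) : ∃ i, Good h F n ξ (S i) := by
  haveI : IsFiltered ι := isFiltered_of_directed_le_nonempty _
  obtain ⟨hc⟩ := nonempty_isColimit_vanCocone S hS T hT hqc
  haveI : PreservesColimitsOfSize.{u + 1, u + 1} (EtCoh.pull h) := (EtCoh.pullPushAdj h).leftAdjoint_preservesColimits
  haveI := QcqsAcyclic.preservesColimitsOfShape_HF X (n + 1) ι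
  haveI := QcqsAcyclic.preservesColimitsOfShape_HF Y (n + 1) ι
  obtain ⟨γ, hγ⟩ := hg
  obtain ⟨i, γi, hγi⟩ : ∃ (i : ι) (γi : EtCoh.H X (vanQ F (S i)) (n + 1)), hmap (vanQMap F (hT i)) (n + 1) γi = γ :=
    exists_hmap_of_colimit (K := vanSys F S hS) (c := vanCocone F S hS T hT) (n + 1) hc γ
  let P := vanSys F S hS ⋙ EtCoh.pull h
  have hcY := isColimitOfPreserves (EtCoh.HF Y (n + 1)) (isColimitOfPreserves (EtCoh.pull h) hc)
  obtain ⟨k, a, b, hk⟩ := Concrete.isColimit_exists_of_rep_eq (P ⋙ EtCoh.HF Y (n + 1)) hcY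
    (i := i) (j := i) (EtCore.Hpull h (vanQ F (S i)) (n + 1) γi)
    (hmap ((EtCoh.pull h).map (cokernel.π (vanIncl F (S i)))) (n + 1) ξ) (by
      refine (Hpull_hmap h (vanQMap F (hT i)) (n + 1) γi).symm.trans ?_
      rw [hγi, hγ]
      show hmap _ (n + 1) ξ = hmap ((EtCoh.pull h).map (vanQMap F (hT i))) (n + 1) (hmap _ (n + 1) ξ)
      rw [hmap_comp, ← Functor.map_comp, π_vanQMap])
  refine ⟨k, hmap (vanQMap F (hS (leOfHom a))) (n + 1) γi, ?_⟩
  rw [Hpull_hmap]
  refine hk.trans ?_
  show hmap ((EtCoh.pull h).map (vanQMap F (hS (leOfHom b)))) (n + 1) (hmap _ (n + 1) ξ) = _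
  rw [hmap_comp, ← Functor.map_comp, π_vanQMap]

/-- the condition at a point lifting to a test scheme -/
theorem good_point {Xb : Scheme.{u}} (p : Xb ⟶ X) (xb : Xb) (adj : haveI := hasRpushEt h; EtBC.pullD h ⊣ DCoh.RpushEt Y h)
    [PreservesFiniteLimits (EtCoh.pull (pullback.fst p h))] [PreservesFiniteLimits (EtCoh.pull (pullback.snd p h))]
    (hbc : haveI := hasRpushEt h; haveI := hasRpushEt p; haveI := hasRpushEt (pullback.snd p h);
      ∀ (Fb : EtCoh.Ab Xb), EtAcyc.IsLTorsion L Fb → ∀ i : ℤ, i ≤ (n : ℤ) + 1 →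
        IsIso ((DerivedCategory.homologyFunctor (EtCoh.Ab Y) i).map
          (EtBC.bcMap p h (pullback.snd p h) (pullback.fst p h) pullback.condition adj (EtBC.single Xb Fb))))
    (hξ : EtCore.HpullVia (pullback.snd p h) h (pullback.snd p h ≫ h) rfl F (n + 1) ξ ∈
      Set.range (EtCore.HpullVia (pullback.fst p h) p (pullback.snd p h ≫ h) pullback.condition F (n + 1))) :
    Good h F n ξ {p.base xb} := by
  haveI := hasRpushEt h
  haveI := hasRpushEt p
  haveI := hasRpushEt (pullback.snd p h)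
  haveI : (EtCoh.pull h).Additive := Functor.additive_of_preserves_binary_products _
  let Ω : Type u := AlgebraicClosure (Xb.residueField xb)
  let s : Spec (CommRingCat.of Ω) ⟶ Xb :=
    Spec.map (CommRingCat.ofHom (algebraMap (Xb.residueField xb) Ω)) ≫ Xb.fromSpecResidueField xb
  haveI : QuasiCompact s := ⟨fun U _ _ => (Set.subsingleton_of_subsingleton (α := PrimeSpectrum Ω)).finite.isCompact⟩
  haveI : QuasiSeparated (s ≫ p) := inferInstance
  haveI : QuasiSeparated s := QuasiSeparated.of_comp s p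
  haveI : QuasiCompact (s ≫ p) := inferInstance
  haveI : EtCoh.BCCont s := EtCoh.bcCont s
  haveI : EtCoh.BCCont p := EtCoh.bcCont p
  haveI : PreservesFiniteLimits (EtCoh.pull s) := pull_preservesFiniteLimits s
  haveI : PreservesFiniteLimits (EtCoh.pull p) := pull_preservesFiniteLimits p
  let M := (EtCoh.pull s).obj ((EtCoh.pull p).obj F)
  have hM : EtAcyc.IsLTorsion L M := EtFound.isLTorsion_pull s L (EtFound.isLTorsion_pull p L hF)
  let J := (EtCoh.push s).obj M
  have hJt : EtAcyc.IsLTorsion L J :=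
    isLTorsion_of_iso ((EtCoh.push s).rightDerivedZeroIsoSelf.app M) (S8560.result s L M hM 0)
  let P := (EtCoh.push p).obj J
  have hPt : EtAcyc.IsLTorsion L P :=
    isLTorsion_of_iso (((EtCoh.push (s ≫ p)).rightDerivedZeroIsoSelf.app M) ≪≫ (EtCoh.pushComp p s).symm.app M)
      (S8560.result (s ≫ p) L M hM 0)
  let i : (EtCoh.pull p).obj F ⟶ J := (EtCoh.pullPushAdj s).unit.app _
  let a : F ⟶ P := (EtCoh.pullPushAdj p).homEquiv _ _ i
  have hker : ∀ U (t : F.obj.obj (op U)), a.hom.app (op U) t = 0 → t ∈ vanSec F {p.base xb} U := by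
    intro U t ht x hx
    let K := kernel a
    have hK0 : (EtCoh.pull s).map ((EtCoh.pull p).map (kernel.ι a)) = 0 := by
      haveI : (EtCoh.pull p).Additive := Functor.additive_of_preserves_binary_products _
      haveI : (EtCoh.pull s).Additive := Functor.additive_of_preserves_binary_products _
      have h1 := congrArg ((EtCoh.pullPushAdj p).homEquiv _ _).symm (kernel.condition a)
      rw [Adjunction.homEquiv_naturality_left_symm, Equiv.symm_apply_apply, symm_zero] at h1
      have h2 := congrArg ((EtCoh.pullPushAdj s).homEquiv _ _).symm h1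
      rw [Adjunction.homEquiv_naturality_left_symm, symm_zero, Adjunction.homEquiv_counit,
        Adjunction.left_triangle_components] at h2
      exact (Category.comp_id _).symm.trans h2
    let ζ : Spec (CommRingCat.of Ω) ⟶ X := (𝟙 _ ≫ s) ≫ p
    have hz : IsZero ((EtCoh.stalk ζ).obj K) := by
      haveI : Mono ((EtCoh.pull p).map (kernel.ι a)) := Functor.map_mono _ _
      haveI : Mono ((EtCoh.pull s).map ((EtCoh.pull p).map (kernel.ι a))) := Functor.map_mono _ _
      have hM0 : IsZero ((EtCoh.pull s).obj ((EtCoh.pull p).obj K)) :=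
        IsZero.of_mono_eq_zero _ hK0
      haveI : (EtCoh.stalk (𝟙 (Spec (CommRingCat.of Ω)))).Additive := Functor.additive_of_preserves_binary_products _
      exact ((EtCoh.stalk _).map_isZero hM0).of_iso
        (((stalkPullIso p (𝟙 _ ≫ s)).app K).symm ≪≫ ((stalkPullIso s (𝟙 _)).app ((EtCoh.pull p).obj K)).symm)
    obtain ⟨y, hy⟩ := (SiteBase.secExact_iff (ShortComplex.mk (kernel.ι a) a (kernel.condition a)) U).1
      ((ShortComplex.exact_of_f_is_kernel _ (kernelIsKernel a)).map_of_mono_of_preservesKernel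
        (sheafToPresheaf X.smallEtaleTopology AddCommGrpCat.{u + 1} ⋙
          (evaluation X.Etaleᵒᵖ AddCommGrpCat.{u + 1}).obj (op U)) inferInstance inferInstance) t ht
    let g₀ : U ⟶ EtCoh.top X := (MorphismProperty.Over.mkIdTerminal EtCoh.etaleMP X).from U
    let ω : (Scheme.pointSmallEtale ζ).fiber.obj (EtCoh.top X) := CategoryTheory.Over.homMk ζ (Category.comp_id _)
    obtain ⟨v, -, hvx⟩ := exists_lift_point g₀ ω x (by
      show g₀.left.base x = ζ.base (default : Spec (CommRingCat.of Ω))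
      have e : g₀.left = U.hom := (Category.comp_id _).symm.trans (MorphismProperty.Over.w g₀)
      rw [e]
      refine Eq.trans hx ?_
      show p.base xb = ((𝟙 _ ≫ s) ≫ p).base _
      rw [Category.id_comp, Scheme.Hom.comp_apply]
      refine congrArg p.base ?_
      show xb = (Spec.map _ ≫ Xb.fromSpecResidueField xb).base _
      rw [Scheme.Hom.comp_apply, Scheme.fromSpecResidueField_apply])
    have hg0 : (Scheme.pointSmallEtale ζ).toPresheafFiber U v F.obj t = 0 := by
      rw [← hy]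
      show (Scheme.pointSmallEtale ζ).toPresheafFiber U v F.obj ((kernel.ι a).hom.app (op U) y) = 0
      rw [← (Scheme.pointSmallEtale ζ).toPresheafFiber_naturality_apply (kernel.ι a).hom]
      have hy0 : (Scheme.pointSmallEtale ζ).toPresheafFiber U v K.obj y = 0 :=
        (AddCommGrpCat.subsingleton_of_isZero hz).elim _ _
      exact (congrArg _ hy0).trans (map_zero _)
    exact hvx ▸ vanishAt_of_germ t v hg0
  have hπ : kernel.ι a ≫ cokernel.π (vanIncl F {p.base xb}) = 0 := CategoryTheory.Sheaf.hom_ext (NatTrans.ext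
    (funext fun U => by
      ext t
      exact (π_app_eq_zero_iff (U := U.unop) _).2 (hker U.unop _
        (ConcreteCategory.congr_hom (congrArg (fun q : kernel a ⟶ P => q.hom.app U) (kernel.condition a)) t))))
  suffices hc : hmap ((EtCoh.pull h).map (cokernel.π (kernel.ι a))) (n + 1) ξ ∈
      Set.range (EtCore.Hpull h (Abelian.coimage a) (n + 1)) by
    obtain ⟨γ, hγ⟩ := hc
    refine ⟨hmap (cokernel.desc _ _ hπ) (n + 1) γ, ?_⟩
    exact (Hpull_hmap h (cokernel.desc _ _ hπ) (n + 1) γ).trans ((congrArg _ hγ).trans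
      ((hmap_comp _ _ _ _).trans (congrArg (fun q => hmap q (n + 1) ξ)
        ((Functor.map_comp _ _ _).symm.trans (congrArg _ (cokernel.π_desc _ _ _))))))
  refine S8536.result h L n hcomp (Abelian.factorThruCoimage a) (isLTorsion_of_epi (cokernel.π (kernel.ι a)) hF) hPt _
    ⟨0, ?_⟩
  rw [map_zero]
  refine Eq.symm ((hmap_comp _ _ _ _).trans ?_)
  rw [← Functor.map_comp]
  erw [Abelian.coimage.fac]
  obtain ⟨y, hy⟩ := hξ
  have hbc0 : IsIso (EtCoh.baseChange0 p h (pullback.snd p h) (pullback.fst p h) pullback.condition J) :=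
    BcMapZero.isIso_baseChange0_of_bcMap p h _ _ pullback.condition adj J (hbc J hJt 0 (by omega))
  have hR' : ∀ j, 1 ≤ j → j ≤ n → IsZero ((EtCoh.Rpush (pullback.snd p h) j).obj ((EtCoh.pull (pullback.fst p h)).obj J)) :=
    fun j hj hjn => by
      obtain ⟨k, rfl⟩ : ∃ k, j = k + 1 := ⟨j - 1, by omega⟩
      exact BcMapZero.isZero_rpush_of_bcMap p h _ _ pullback.condition adj J (k + 1) (isZero_rpush_push s p k M)
        (hbc J hJt _ (by omega))
  have hy' := hVia_of_HpullVia (pullback.snd p h) h (pullback.fst p h) p (pullback.snd p h ≫ h) rfl pullback.condition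
    F (n + 1) ξ y hy
  have hk := kill_class (pullback.snd p h) h (pullback.fst p h) p (pullback.snd p h ≫ h) rfl pullback.condition F i (𝟙 _)
    ((EtCoh.pullPushAdj (pullback.snd p h)).counit.app _)
    ((EtCoh.pull h).map a ≫ EtCoh.baseChange0 p h (pullback.snd p h) (pullback.fst p h) pullback.condition J)
    ((θPull (pullback.fst p h) p (pullback.snd p h ≫ h) pullback.condition).inv.app F ≫
      (EtCoh.pull (pullback.fst p h)).map i)
    (mate_eq h p (pullback.fst p h) (pullback.snd p h) pullback.condition F J i)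
    ((Iso.hom_inv_id_app_assoc _ _ _).trans (Category.comp_id _).symm) (n + 1)
    (subsingleton_H_push s n M) (injective_hThen_counit (pullback.snd p h) _ n hR') ξ y hy'
  haveI := hbc0
  refine (hmap_bijective_of_isIso
    (EtCoh.baseChange0 p h (pullback.snd p h) (pullback.fst p h) pullback.condition J) (n + 1)).1 ?_
  exact ((hmap_comp _ _ _ _).trans hk).trans (map_zero _).symm

end Groth.Agent.DescCrit
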