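import Groth.Agent.BcMapZero.Et
import Groth.Agent.SiteBase.LerayTop
import Groth.Agent.SiteBase.RpushD.Single
import Groth.Agent.EtFound.IntegralBaseChange
import Groth.Agent.EtFound.FiniteBaseChange
import Groth.Agent.EtFound.PushExact

/-!
# Derived base change along integral morphisms is invertible on single sheaves
-/

set_option autoImplicit false
set_option linter.style.haveILetI false
set_option linter.unusedSectionVars false

universe u

open CategoryTheory CategoryTheory.Limits AlgebraicGeometry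
open Groth.Agent.KFlatLib (psiC hSingle singleQ)

attribute [local instance] HasDerivedCategory.standard

namespace Groth.Agent.DescCrit

open BcMapZero

set_option backward.isDefEq.respectTransparency.types false

section Abstract

universe vA vB vC vD uA uB uC uD

variable {A : Type uA} [Category.{vA} A] [Abelian A] {B : Type uB} [Category.{vB} B] [Abelian B]
  {C : Type uC} [Category.{vC} C] [Abelian C] {D : Type uD} [Category.{vD} D] [Abelian D]
  {P : A ⥤ B} [P.Additive] {Q : A ⥤ C} [Q.Additive] [PreservesFiniteLimits Q] [PreservesFiniteColimits Q]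
  {S : C ⥤ D} [S.Additive] {T : D ⥤ B} [T.Additive] {ptp : P ⟶ Q ⋙ S ⋙ T}
  {RS : DerivedCategory C ⥤ DerivedCategory D}
  {αS : S.mapHomotopyCategory (ComplexShape.up ℤ) ⋙ DerivedCategory.Qh ⟶ DerivedCategory.Qh ⋙ RS}
  {RT : DerivedCategory D ⥤ DerivedCategory B}
  {αT : T.mapHomotopyCategory (ComplexShape.up ℤ) ⋙ DerivedCategory.Qh ⟶ DerivedCategory.Qh ⋙ RT}
  {F : B ⥤ D} [F.Additive] [PreservesFiniteLimits F] [PreservesFiniteColimits F]
  (adj : F ⊣ T) (adjD : F.mapDerivedCategory ⊣ RT)

local notation "sD" => DerivedCategory.singleFunctor _ 0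

/-- the derived transpose of an invertible transpose is invertible -/
theorem isIso_transpose_converse (hT : ∀ (N : B) (M : D),
      Function.Bijective fun v : N ⟶ T.obj M => (sD).map v ≫ kap T RT αT M) {N : B} {M : D}
    (w : N ⟶ T.obj M) (h : IsIso ((adj.homEquiv _ _).symm w)) :
    IsIso ((DerivedCategory.homologyFunctor D 0).map
      ((adjD.homEquiv _ _).symm ((sD).map w ≫ kap T RT αT M))) := by
  let e := singleIso F N
  obtain ⟨v, hv⟩ := (hT N (F.obj N)).2 ((adjD.homEquiv _ _) e.hom)
  change (sD).map v ≫ kap T RT αT (F.obj N) = _ at hv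
  let ε := (adj.homEquiv _ _).symm v
  have key : ∀ {M' : D} (b : F.obj N ⟶ M'),
      (sD).map (v ≫ T.map b) ≫ kap T RT αT M' = (adjD.homEquiv _ _) (e.hom ≫ (sD).map b) := fun {M'} b => by
    rw [adjD.homEquiv_naturality_right, ← hv, Functor.map_comp, Category.assoc, Category.assoc, kap_naturality]
  have hbij : ∀ M' : D, Function.Bijective fun b : F.obj N ⟶ M' => ε ≫ b := fun M' => by
    have h1 : Function.Bijective fun b : F.obj N ⟶ M' => v ≫ T.map b := by
      refine (Function.Bijective.of_comp_iff' (hT N M') _).1 ?_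
      refine ⟨fun a b hab => ?_, fun y => ?_⟩
      · simp only [Function.comp_apply, key] at hab
        exact (DerivedCategory.singleFunctor D 0).map_injective ((cancel_epi e.hom).1 ((adjD.homEquiv _ _).injective hab))
      · obtain ⟨b, hb⟩ := (DerivedCategory.singleFunctor D 0).map_surjective (e.inv ≫ (adjD.homEquiv _ _).symm y)
        refine ⟨b, ?_⟩
        simp only [Function.comp_apply, key, hb, Iso.hom_inv_id_assoc, Equiv.apply_symm_apply]
    have e2 : (fun b : F.obj N ⟶ M' => ε ≫ b) = (adj.homEquiv _ _).symm ∘ fun b => v ≫ T.map b :=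
      funext fun b => (adj.homEquiv_naturality_right_symm v b).symm
    rw [e2]
    exact (Equiv.bijective _).comp h1
  haveI : IsIso ε := by
    obtain ⟨i, hi⟩ := (hbij (F.obj N)).2 (𝟙 _)
    exact ⟨i, hi, (hbij (F.obj N)).1 (show ε ≫ i ≫ ε = ε ≫ 𝟙 _ by rw [reassoc_of% hi, Category.comp_id])⟩
  obtain ⟨a, ha⟩ := (DerivedCategory.singleFunctor D 0).map_surjective
    (e.inv ≫ (adjD.homEquiv _ _).symm ((sD).map w ≫ kap T RT αT M))
  have hw : w = v ≫ T.map a := (hT N M).1 (show (sD).map w ≫ _ = (sD).map (v ≫ T.map a) ≫ _ by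
    rw [key, ha, Iso.hom_inv_id_assoc, Equiv.apply_symm_apply])
  haveI : IsIso a := by
    rw [hw, adj.homEquiv_naturality_right_symm] at h
    exact @IsIso.of_isIso_comp_left _ _ _ _ _ ε a ‹IsIso ε› h
  have e3 : (adjD.homEquiv _ _).symm ((sD).map w ≫ kap T RT αT M) = e.hom ≫ (sD).map a := by
    rw [ha, Iso.hom_inv_id_assoc]
  rw [e3]
  infer_instance

variable {RP : DerivedCategory A ⥤ DerivedCategory B}
  {αP : P.mapHomotopyCategory (ComplexShape.up ℤ) ⋙ DerivedCategory.Qh ⟶ DerivedCategory.Qh ⋙ RP}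

/-- the derived base change map is invertible in degree zero when the map on sheaves is -/
theorem isIso_derived_of_symm {β : RP ⟶ Q.mapDerivedCategory ⋙ RS ⋙ RT}
    (hβ : ∀ K, αP.app K ≫ β.app (DerivedCategory.Qh.obj K) = (squareUnit P Q S T ptp RS αS RT αT).app K) (M : A)
    (hP : IsIso ((DerivedCategory.homologyFunctor B 0).map (kap P RP αP M)))
    (hS : IsIso ((DerivedCategory.homologyFunctor D 0).map (kap S RS αS (Q.obj M))))
    (hT : ∀ (N : B) (M' : D), Function.Bijective fun v : N ⟶ T.obj M' => (sD).map v ≫ kap T RT αT M')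
    (h : IsIso ((adj.homEquiv _ _).symm (ptp.app M))) :
    IsIso ((DerivedCategory.homologyFunctor D 0).map ((adjD.homEquiv _ _).symm (β.app ((sD).obj M)))) := by
  have h1 := isIso_transpose_converse adj adjD hT (ptp.app M) h
  have hφ : (adjD.homEquiv _ _).symm ((sD).map (ptp.app M) ≫ kap T RT αT (S.obj (Q.obj M))) ≫ kap S RS αS (Q.obj M) =
      F.mapDerivedCategory.map (kap P RP αP M) ≫ (adjD.homEquiv _ _).symm (β.app ((sD).obj M)) ≫
        RS.map (singleIso Q M).hom := by
    rw [← adjD.homEquiv_naturality_right_symm, Category.assoc, ← kap_eq P Q S T ptp RS αS RT αT RP αP β hβ M,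
      adjD.homEquiv_naturality_left_symm]
    exact congrArg (_ ≫ ·) (adjD.homEquiv_naturality_right_symm _ _)
  have h2 := congrArg (DerivedCategory.homologyFunctor D 0).map hφ
  simp only [Functor.map_comp] at h2
  haveI : IsIso ((DerivedCategory.homologyFunctor D 0).map (F.mapDerivedCategory.map (kap P RP αP M))) := by
    haveI := hP
    exact (NatIso.isIso_map_iff (KFlatLib.mapDCHomologyIso F 0) (kap P RP αP M)).2
      (inferInstanceAs (IsIso (F.map ((DerivedCategory.homologyFunctor B 0).map (kap P RP αP M)))))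
  haveI := h1
  haveI := hS
  have h3 : IsIso ((DerivedCategory.homologyFunctor D 0).map ((adjD.homEquiv _ _).symm (β.app ((sD).obj M))) ≫
      (DerivedCategory.homologyFunctor D 0).map (RS.map (singleIso Q M).hom)) := by
    refine @IsIso.of_isIso_comp_left _ _ _ _ _
      ((DerivedCategory.homologyFunctor D 0).map (F.mapDerivedCategory.map (kap P RP αP M))) _ ‹_› ?_
    rw [← h2]
    exact IsIso.comp_isIso' h1 hS
  exact @IsIso.of_isIso_comp_right _ _ _ _ _ _ _ (Functor.map_isIso _ _) h3

end Abstract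

open Groth.Agent.EtFound

theorem isIso_of_isZero {C : Type*} [Category* C] {A B : C} (hA : IsZero A) (hB : IsZero B) (f : A ⟶ B) : IsIso f :=
  ⟨hB.to_ A, hA.eq_of_src _ _, hB.eq_of_src _ _⟩

variable {X Y X' Y' : Scheme.{u}} (f : X ⟶ Y) (g : Y' ⟶ Y) (f' : X' ⟶ Y') (g' : X' ⟶ X)
  [PreservesFiniteLimits (EtCoh.pull g)] [PreservesFiniteLimits (EtCoh.pull g')]
  [DCoh.HasRpushEt X f] [DCoh.HasRpushEt X' f'] [DCoh.HasRpushEt Y' g]

theorem isZero_H_neg (M : EtCoh.Ab X) (i : ℤ) (hi : i < 0) :
    IsZero ((DerivedCategory.homologyFunctor (EtCoh.Ab Y) i).obj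
      ((DCoh.RpushEt X f).obj ((DerivedCategory.singleFunctor (EtCoh.Ab X) 0).obj M))) := by
  haveI : (EtCoh.push f).Additive := (EtCoh.pullPushAdj f).right_adjoint_additive
  have h := SiteBase.RpushD.isGE_RD (EtCoh.push f) ((DerivedCategory.singleFunctor (EtCoh.Ab X) 0).obj M) 0
  exact (DerivedCategory.isGE_iff _ _).1 h i hi

/-- base change along integral morphisms -/
theorem isIso_bcMap_of_integral (sq : IsPullback g' f' f g) [IsIntegralHom f]
    (adj : EtBC.pullD g ⊣ DCoh.RpushEt Y' g) (M : EtCoh.Ab X) (i : ℤ) :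
    IsIso ((DerivedCategory.homologyFunctor (EtCoh.Ab Y') i).map
      (EtBC.bcMap f g f' g' sq.w adj ((DerivedCategory.singleFunctor (EtCoh.Ab X) 0).obj M))) := by
  haveI : IsIntegralHom f' := MorphismProperty.of_isPullback sq ‹IsIntegralHom f›
  haveI : EtCoh.BCCont f := EtCoh.bcCont f
  haveI : EtCoh.BCCont f' := EtCoh.bcCont f'
  haveI := preservesFiniteColimits_pull g
  haveI := preservesFiniteColimits_pull g'
  haveI : (EtCoh.pull g).Additive := Functor.additive_of_preserves_binary_products _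
  haveI : (EtCoh.pull g').Additive := Functor.additive_of_preserves_binary_products _
  rcases lt_trichotomy i 0 with hi | rfl | hi
  · refine isIso_of_isZero ?_ ?_ _
    · exact IsZero.of_iso ((EtCoh.pull g).map_isZero (isZero_H_neg f M i hi))
        ((KFlatLib.mapDCHomologyIso (EtCoh.pull g) i).app _)
    · exact IsZero.of_iso (isZero_H_neg f' ((EtCoh.pull g').obj M) i hi)
        ((DerivedCategory.homologyFunctor _ i).mapIso ((DCoh.RpushEt X' f').mapIso (BcMapZero.singleIso (EtCoh.pull g') M)))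
  · have hb : ∀ K, (rU f).app K ≫ (EtBC.bcAdj f g f' g' sq.w).app (DerivedCategory.Qh.obj K) =
        (squareUnit (EtCoh.push f) (EtCoh.pull g') (EtCoh.push f') (EtCoh.push g) (EtBC.pushToPushPull f g f' g' sq.w)
          (DCoh.RpushEt X' f') (rU f') (DCoh.RpushEt Y' g) (rU g)).app K :=
      fun K => (DCoh.RpushEt X f).rightDerived_fac_app (rU f) (HomotopyCategory.quasiIso (EtCoh.Ab X) (ComplexShape.up ℤ))
        (EtBC.pullD g' ⋙ DCoh.RpushEt X' f' ⋙ DCoh.RpushEt Y' g) (EtBC.bcUnit f g f' g' sq.w) K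
    refine isIso_derived_of_symm (EtCoh.pullPushAdj g) adj hb M (isIso_H_kap_et f M)
      (isIso_H_kap_et f' _) (bijective_kap_et g) ?_
    have e : EtCoh.baseChange0 f g f' g' sq.w M =
        ((EtCoh.pullPushAdj g).homEquiv _ _).symm ((EtBC.pushToPushPull f g f' g' sq.w).app M) := by
      unfold EtCoh.baseChange0
      refine congrArg ((EtCoh.pullPushAdj g).homEquiv _ _).symm ?_
      simp [EtBC.pushToPushPull]
    rw [← e]
    exact isIso_baseChange_of_integral sq M _ (baseChange0_unit f g f' g' sq.w M)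
  · obtain ⟨k, rfl⟩ : ∃ k : ℕ, i = ((k + 1 : ℕ) : ℤ) := ⟨(i - 1).toNat, by omega⟩
    haveI := push_preservesFiniteLimits f
    haveI := push_preservesFiniteLimits f'
    haveI := push_preservesFiniteColimits f
    haveI := push_preservesFiniteColimits f'
    obtain ⟨e₁⟩ := nonempty_H_rpush_single f M (k + 1)
    obtain ⟨e₂⟩ := nonempty_H_rpush_single f' ((EtCoh.pull g').obj M) (k + 1)
    refine isIso_of_isZero ?_ ?_ _
    · exact IsZero.of_iso ((EtCoh.pull g).map_isZero ((LerayDegen.isZero_rightDerived_of_exact (EtCoh.push f) M k).of_iso e₁))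
        ((KFlatLib.mapDCHomologyIso (EtCoh.pull g) _).app _)
    · exact IsZero.of_iso ((LerayDegen.isZero_rightDerived_of_exact (EtCoh.push f') ((EtCoh.pull g').obj M) k).of_iso e₂)
        ((DerivedCategory.homologyFunctor _ _).mapIso ((DCoh.RpushEt X' f').mapIso (BcMapZero.singleIso (EtCoh.pull g') M)))

end Groth.Agent.DescCrit
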