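import Groth.Agent.DescCrit.Crit
import Groth.Agent.DescCrit.Closed
import Mathlib.AlgebraicGeometry.IdealSheaf.Subscheme
import Mathlib.Order.Zorn

/-!
# Classes come from the base when they do so on a test family
-/

set_option autoImplicit false
set_option linter.style.haveILetI false
universe u

open CategoryTheory CategoryTheory.Limits AlgebraicGeometry Opposite Topology

attribute [local instance] HasDerivedCategory.standard

namespace Groth.Agent.DescCrit

open Groth.Agent.EtLimit Groth.Agent.EtFound Groth.Agent.EtBC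

set_option backward.isDefEq.respectTransparency.types false
set_option maxHeartbeats 1000000

variable {X Y : Scheme.{u}} [CompactSpace X] [QuasiSeparatedSpace X] [CompactSpace Y] [QuasiSeparatedSpace Y]
  {h : Y ⟶ X} [PreservesFiniteLimits (EtCoh.pull h)] {L : Set ℕ} {n : ℕ} {F : EtCoh.Ab X}
  {ξ : EtCoh.H Y ((EtCoh.pull h).obj F) (n + 1)} (hcomp : EtAcyc.CompN h L n) (hF : EtAcyc.IsLTorsion L F)

include hcomp hF

/-- the proof by Noetherian-free induction on closed subsets -/
theorem mem_range_of_points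
    (hpt : ∀ M : Set X, IsClosed M → M.Nonempty →
      ∃ V : Set X, IsOpen V ∧ (V ∩ M).Nonempty ∧ ∀ x ∈ V ∩ M, Good h F n ξ {x}) :
    ξ ∈ Set.range (EtCore.Hpull h F (n + 1)) := by
  refine mem_range_of_good_univ hcomp hF ?_
  by_contra hbad
  obtain ⟨M, -, hM⟩ := zorn_superset_nonempty {Z : Set X | IsClosed Z ∧ ¬ Good h F n ξ Z} (fun c hc hchain hne => by
    refine ⟨⋂₀ c, ⟨isClosed_sInter fun Z hZ => (hc hZ).1, fun hgood => ?_⟩, fun Z hZ => Set.sInter_subset_of_mem hZ⟩
    haveI : Nonempty (ULift.{u + 1} (↥c)ᵒᵈ) := ⟨⟨OrderDual.toDual ⟨hne.some, hne.some_mem⟩⟩⟩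
    haveI : IsDirected (ULift.{u + 1} (↥c)ᵒᵈ) (· ≤ ·) := ⟨fun a b => by
      rcases hchain.total (OrderDual.ofDual a.down).2 (OrderDual.ofDual b.down).2 with h' | h'
      exacts [⟨a, le_refl _, h'⟩, ⟨b, h', le_refl _⟩]⟩
    obtain ⟨i, hi⟩ := exists_good (fun a : ULift.{u + 1} (↥c)ᵒᵈ => (OrderDual.ofDual a.down).1) (fun a b hab => hab) (⋂₀ c)
      (fun a => Set.sInter_subset_of_mem (OrderDual.ofDual a.down).2) (fun U hU O hO hT => by
        haveI := hU
        have hdir : Directed (fun s t : Set U.left => t ⊆ s)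
            fun a : ULift.{u + 1} (↥c)ᵒᵈ => U.hom.base ⁻¹' (OrderDual.ofDual a.down).1 := fun a b => by
          obtain ⟨d, ha, hb⟩ := directed_of (α := ULift.{u + 1} (↥c)ᵒᵈ) (· ≤ ·) a b
          exact ⟨d, fun x hx => ha hx, fun x hx => hb hx⟩
        obtain ⟨a, ha⟩ := hO.isClosed_compl.isCompact.elim_directed_family_closed
          (fun a : ULift.{u + 1} (↥c)ᵒᵈ => U.hom.base ⁻¹' (OrderDual.ofDual a.down).1)
          (fun a => (hc (OrderDual.ofDual a.down).2).1.preimage U.hom.continuous)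
          (Set.eq_empty_iff_forall_notMem.2 fun x hx => hx.1 (hT x (Set.mem_sInter.2 fun Z hZ =>
            Set.mem_iInter.1 hx.2 ⟨OrderDual.toDual ⟨Z, hZ⟩⟩))) hdir
        exact ⟨a, fun x hx => by_contra fun hxO => Set.eq_empty_iff_forall_notMem.1 ha x ⟨hxO, hx⟩⟩) hgood
    exact (hc (OrderDual.ofDual i.down).2).2 hi) Set.univ ⟨isClosed_univ, hbad⟩
  obtain ⟨hMc, hMbad⟩ := hM.prop
  have hmin : ∀ Z : Set X, IsClosed Z → Z ⊆ M → Z ≠ M → Good h F n ξ Z := fun Z hZ hZM hne =>
    by_contra fun hb => hne (hM.eq_of_subset ⟨hZ, hb⟩ hZM)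
  have hne : M.Nonempty := Set.nonempty_iff_ne_empty.2 fun he => hMbad (he ▸ good_empty)
  have hirr : IsIrreducible M := ⟨hne, isPreirreducible_iff_isClosed_union_isClosed.2 fun Z₁ Z₂ h₁ h₂ hsub => by
    by_contra hcon
    push Not at hcon
    refine hMbad ?_
    have e : M = (M ∩ Z₁) ∪ (M ∩ Z₂) := by rw [← Set.inter_union_distrib_left, Set.inter_eq_left.2 hsub]
    rw [e]
    exact Good.union hcomp hF
      (hmin _ (hMc.inter h₁) Set.inter_subset_left fun he => hcon.1 (Set.inter_eq_left.1 he))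
      (hmin _ (hMc.inter h₂) Set.inter_subset_left fun he => hcon.2 (Set.inter_eq_left.1 he))⟩
  let η := hirr.genericPoint
  have hη : closure ({η} : Set X) = M := by
    rw [hirr.closure_genericPoint hMc]
  obtain ⟨V, hV, ⟨x, hxV, hxM⟩, hVg⟩ := hpt M hMc hne
  have hηM : η ∈ M := hη ▸ subset_closure rfl
  have hηV : η ∈ V := by
    obtain ⟨y, hyV, hy⟩ := mem_closure_iff.1 (hη.ge hxM) V hV hxV
    exact Set.mem_singleton_iff.1 hy ▸ hyV
  let ι' := {Z : Set X // IsClosed Z ∧ Z ⊆ M ∧ η ∉ Z}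
  haveI : Nonempty (ULift.{u + 1} ι') := ⟨⟨⟨∅, isClosed_empty, Set.empty_subset _, Set.notMem_empty _⟩⟩⟩
  haveI : IsDirected (ULift.{u + 1} ι') (· ≤ ·) := ⟨fun a b =>
    ⟨⟨⟨a.down.1 ∪ b.down.1, a.down.2.1.union b.down.2.1, Set.union_subset a.down.2.2.1 b.down.2.2.1,
      fun hh => hh.elim a.down.2.2.2 b.down.2.2.2⟩⟩, Set.subset_union_left, Set.subset_union_right⟩⟩
  obtain ⟨i, hi⟩ := exists_good (fun a : ULift.{u + 1} ι' => M \ a.down.1)
    (fun a b hab => Set.sdiff_subset_sdiff_right hab) {η}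
    (fun a => Set.singleton_subset_iff.2 ⟨hηM, a.down.2.2.2⟩) (fun U hU O hO hT => by
      haveI := hU
      haveI : CompactSpace U.left := inferInstance
      haveI : QuasiCompact U.hom := @quasiCompact_of_compactSpace _ _ (U.hom : U.left ⟶ X)
        ‹CompactSpace U.left› ‹QuasiSeparatedSpace X›
      let Z := closure (U.hom.base '' (U.hom.base ⁻¹' M ∩ Oᶜ))
      have hZM : Z ⊆ M := (hMc.closure_subset_iff).2 (by rintro _ ⟨c, hc, rfl⟩; exact hc.1)
      refine ⟨⟨⟨Z, isClosed_closure, hZM, fun hZ => ?_⟩⟩, fun y hy => by_contra fun hyO =>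
        hy.2 (subset_closure ⟨y, ⟨hy.1, hyO⟩, rfl⟩)⟩
      obtain ⟨c, ⟨hcM, hcO⟩, hc⟩ := exists_specializes_of_mem_closure_image U.hom _
        ((hMc.preimage U.hom.continuous).inter hO.isClosed_compl) η hZ
      have he : U.hom.base c = η := (hc.antisymm (specializes_iff_mem_closure.2 (hη.ge hcM))).eq
      exact hcO (hT c he)) (hVg η ⟨hηV, hηM⟩)
  refine hMbad ?_
  have hu := Good.union hcomp hF hi (hmin i.down.1 i.down.2.1 i.down.2.2.1 fun he => i.down.2.2.2 (he.symm.subset hηM))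
  rwa [Set.sdiff_union_of_subset i.down.2.2.1] at hu

omit hcomp hF

theorem descent_criterion [DCoh.HasRpushEt Y h] (hcomp : EtAcyc.CompN h L n)
    (adj : EtBC.pullD h ⊣ DCoh.RpushEt Y h) (hF : EtAcyc.IsLTorsion L F) :
    ξ ∈ Set.range (EtCore.Hpull h F (n + 1)) ↔
      ∀ X' : Set X, IsClosed X' → X'.Nonempty →
        ∃ (Xb : Scheme.{u}) (p : Xb ⟶ X),
          Set.range p.base ⊆ X' ∧
          (∃ V : Set X, IsOpen V ∧ (V ∩ X').Nonempty ∧ V ∩ X' ⊆ Set.range p.base) ∧
          (∀ [PreservesFiniteLimits (EtCoh.pull (pullback.fst p h))] [DCoh.HasRpushEt Xb p]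
            [DCoh.HasRpushEt (pullback p h) (pullback.snd p h)] (Fb : EtCoh.Ab Xb), EtAcyc.IsLTorsion L Fb →
            ∀ i : ℤ, i ≤ (n : ℤ) + 1 → IsIso ((DerivedCategory.homologyFunctor (EtCoh.Ab Y) i).map
              (EtBC.bcMap p h (pullback.snd p h) (pullback.fst p h) pullback.condition adj (EtBC.single Xb Fb)))) ∧
          (∀ [PreservesFiniteLimits (EtCoh.pull (pullback.snd p h))] [PreservesFiniteLimits (EtCoh.pull (pullback.fst p h))],
            EtCore.HpullVia (pullback.snd p h) h (pullback.snd p h ≫ h) rfl F (n + 1) ξ ∈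
              Set.range (EtCore.HpullVia (pullback.fst p h) p (pullback.snd p h ≫ h) pullback.condition F (n + 1))) := by
  constructor
  · intro hξ X' hX' hne
    let I := Scheme.IdealSheafData.vanishingIdeal (X := X) ⟨X', hX'⟩
    let p := I.subschemeι
    have hr : Set.range p.base = X' := by
      rw [Scheme.IdealSheafData.range_subschemeι, Scheme.IdealSheafData.coe_support_vanishingIdeal]
      rfl
    refine ⟨_, p, hr.le, ⟨Set.univ, isOpen_univ, by rwa [Set.univ_inter], by rw [Set.univ_inter, hr]⟩, ?_, ?_⟩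
    · intro _ _ _ Fb _ i _
      exact isIso_bcMap_of_integral p h (pullback.snd p h) (pullback.fst p h) (IsPullback.of_hasPullback p h) adj Fb i
    · intro _ _
      haveI := pull_preservesFiniteLimits p
      haveI := pull_preservesFiniteLimits (pullback.snd p h ≫ h)
      exact baseChange_mem_range (pullback.snd p h) h (pullback.fst p h) p (pullback.snd p h ≫ h) rfl pullback.condition
        F (n + 1) ξ hξ
  · intro H
    refine mem_range_of_points hcomp hF fun M hM hne => ?_
    obtain ⟨Xb, p, -, ⟨V, hV, hVne, hsub⟩, hbc, hξ⟩ := H M hM hne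
    refine ⟨V, hV, hVne, fun x hx => ?_⟩
    obtain ⟨xb, rfl⟩ := hsub hx
    haveI := pull_preservesFiniteLimits (pullback.fst p h)
    haveI := pull_preservesFiniteLimits (pullback.snd p h)
    haveI := hasRpushEt p
    haveI := hasRpushEt (pullback.snd p h)
    exact good_point hcomp hF p xb adj (fun Fb hFb i hi => hbc Fb hFb i hi) hξ

end Groth.Agent.DescCrit
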