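import Groth.Agent.EtFound.CoprodSections
import Groth.Agent.EtFound.SepClosedField
import Groth.Agent.EtFound.Germ
import Groth.Agent.EtLC12.FlasqueAcyclic
import Groth.Agent.EtBC.Killed

/-!
# Sheaves pushed forward from a geometric point have no cohomology and no higher direct images
-/

set_option autoImplicit false
set_option linter.style.haveILetI false
universe u

open CategoryTheory CategoryTheory.Limits AlgebraicGeometry Opposite CategoryTheory.Abelian

namespace Groth.Agent.DescCrit

open Groth.Agent.EtFound

set_option backward.isDefEq.respectTransparency.types false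

variable {k : Type u} [Field k] [IsSepClosed k]

/-- the final object maps through every point -/
theorem exists_top_hom (U : (Spec (CommRingCat.of k)).Etale) (x : U.left) :
    ∃ g : EtCoh.top (Spec (CommRingCat.of k)) ⟶ U, ∀ p, g.left.base p = x := by
  let g₀ : U ⟶ EtCoh.top (Spec (CommRingCat.of k)) :=
    (MorphismProperty.Over.mkIdTerminal EtCoh.etaleMP (Spec (CommRingCat.of k))).from U
  obtain ⟨v, hv, hx⟩ := exists_lift_point g₀ (idTop k) x (Subsingleton.elim (α := PrimeSpectrum k) _ _)
  obtain ⟨g, hg⟩ := exists_hom_idTop v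
  refine ⟨g, fun p => ?_⟩
  rw [← hx, ← hg]
  exact congrArg g.left.base (Subsingleton.elim (α := PrimeSpectrum k) _ _)

/-- epimorphisms of sheaves on a geometric point are surjective on sections -/
theorem sections_surjective {G H : EtCoh.Ab (Spec (CommRingCat.of k))} (a : G ⟶ H) [Epi a]
    (U : (Spec (CommRingCat.of k)).Etale) : Function.Surjective (a.hom.app (op U)) := by
  have htop : Function.Surjective (a.hom.app (op (EtCoh.top (Spec (CommRingCat.of k))))) := fun z => by
    have hloc : Presheaf.IsLocallySurjective (Spec (CommRingCat.of k)).smallEtaleTopology a.hom :=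
      (Sheaf.isLocallySurjective_iff_epi' AddCommGrpCat.{u + 1} a).2 inferInstance
    obtain ⟨V, f, v, ⟨c, hc⟩, -⟩ := (mem_topology_iff _).1
      (hloc.imageSieve_mem (U := EtCoh.top (Spec (CommRingCat.of k))) z) (default : Spec (CommRingCat.of k))
    obtain ⟨g, -⟩ := exists_top_hom V v
    refine ⟨G.obj.map g.op c, ?_⟩
    rw [NatTrans.naturality_apply, hc]
    refine (ConcreteCategory.congr_hom (H.obj.map_comp f.op g.op) z).symm.trans ?_
    rw [← op_comp, hom_top_eq_id (g ≫ f), op_id, CategoryTheory.Functor.map_id]
    rfl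
  choose g hg using exists_top_hom U
  haveI : ∀ x, Mono (g x) := fun x =>
    (MorphismProperty.Over.mkIdTerminal EtCoh.etaleMP (Spec (CommRingCat.of k))).mono_from (g x)
  have hcov : ∀ x : U.left, ∃ (i : U.left) (z : (EtCoh.top (Spec (CommRingCat.of k))).left), (g i).left.base z = x :=
    fun x => ⟨x, (default : Spec (CommRingCat.of k)), hg x _⟩
  have hdisj : ∀ i j : U.left, i ≠ j → ∀ a b, (g i).left.base a ≠ (g j).left.base b := fun i j hij a b h =>
    hij ((hg i a).symm.trans (h.trans (hg j b)))
  intro z
  choose c hc using fun x => htop (H.obj.map (g x).op z)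
  obtain ⟨s, hs⟩ := (bijective_sections_of_disjoint G (fun _ => EtCoh.top (Spec (CommRingCat.of k))) g hcov hdisj).2 c
  refine ⟨s, (bijective_sections_of_disjoint H (fun _ => EtCoh.top (Spec (CommRingCat.of k))) g hcov hdisj).1
    (funext fun x => ?_)⟩
  show H.obj.map (g x).op (a.hom.app (op U) s) = H.obj.map (g x).op z
  rw [← NatTrans.naturality_apply, ← hc x]
  exact congrArg _ (congrFun hs x)

variable {X Z : Scheme.{u}} (s : Spec (CommRingCat.of k) ⟶ X)

/-- short exact sequences on a geometric point stay exact after pushforward, on sections -/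
theorem push_sections_surjective {E : ShortComplex (EtCoh.Ab (Spec (CommRingCat.of k)))} (hE : E.ShortExact)
    (V : X.Etale) : Function.Surjective (((EtCoh.push s).map E.g).hom.app (op V)) :=
  haveI := hE.epi_g
  sections_surjective E.g _

theorem push_shortExact {E : ShortComplex (EtCoh.Ab (Spec (CommRingCat.of k)))} (hE : E.ShortExact) :
    haveI : (EtCoh.push s).Additive := (EtCoh.pullPushAdj s).right_adjoint_additive
    (E.map (EtCoh.push s)).ShortExact := by
  haveI : (EtCoh.push s).Additive := (EtCoh.pullPushAdj s).right_adjoint_additive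
  haveI : PreservesLimitsOfSize.{0, 0} (EtCoh.push s) := (EtCoh.pullPushAdj s).rightAdjoint_preservesLimits
  haveI : PreservesFiniteLimits (EtCoh.push s) := PreservesLimitsOfSize.preservesFiniteLimits _
  haveI := hE.mono_f
  haveI : Mono (E.map (EtCoh.push s)).f := inferInstanceAs (Mono ((EtCoh.push s).map E.f))
  have he : Epi (E.map (EtCoh.push s)).g := (Sheaf.isLocallySurjective_iff_epi' AddCommGrpCat.{u + 1} _).1
    ⟨fun {V} z => by
      obtain ⟨c, hc⟩ := push_sections_surjective s hE V z
      refine ((mem_topology_iff _).2 fun x => ⟨V, 𝟙 V, x, ⟨c, ?_⟩, rfl⟩)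
      rw [op_id, CategoryTheory.Functor.map_id]
      exact hc⟩
  exact { exact := hE.exact.map_of_mono_of_preservesKernel (EtCoh.push s) inferInstance inferInstance
          epi_g := he }

/-- `H^{q+1}` of a pushforward from a geometric point vanishes -/
theorem subsingleton_H_push (q : ℕ) (G : EtCoh.Ab (Spec (CommRingCat.of k))) :
    Subsingleton (EtCoh.H X ((EtCoh.push s).obj G) (q + 1)) := by
  haveI : (EtCoh.push s).Additive := (EtCoh.pullPushAdj s).right_adjoint_additive
  haveI : PreservesFiniteLimits (EtCoh.pull s) := pull_preservesFiniteLimits s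
  haveI : (EtCoh.pull s).PreservesMonomorphisms := inferInstance
  induction q generalizing G with
  | zero =>
    let E := ShortComplex.mk (Injective.ι G) (cokernel.π _) (cokernel.condition (Injective.ι G))
    have hE : E.ShortExact := { exact := ShortComplex.exact_of_g_is_cokernel _ (cokernelIsCokernel _) }
    have hS := push_shortExact s hE
    haveI : Injective (E.map (EtCoh.push s)).X₂ :=
      Injective.injective_of_adjoint (EtCoh.pullPushAdj s) (Injective.under G)
    refine subsingleton_of_forall_eq 0 fun x => ?_
    obtain ⟨z, rfl⟩ := Ext.covariant_sequence_exact₁ _ hS x (Ext.eq_zero_of_injective _) (rfl : 0 + 1 = 1)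
    obtain ⟨φ, rfl⟩ := (Ext.mk₀_bijective _ _).2 z
    let adj := EtCore.constAdj X
    obtain ⟨a, ha⟩ : ∃ a : (EtCore.gsec X).obj (E.map (EtCoh.push s)).X₂,
        (E.map (EtCoh.push s)).g.hom.app (op (EtCoh.top X)) a = adj.homEquiv _ _ φ ⟨1⟩ :=
      push_sections_surjective s hE (EtCoh.top X) (adj.homEquiv _ _ φ ⟨1⟩)
    have hφ : (adj.homEquiv _ _).symm ((AddCommGrpCat.uliftZMultiplesAddEquiv _).symm a) ≫ (E.map (EtCoh.push s)).g =
        φ := by
      apply (adj.homEquiv _ _).injective
      rw [Adjunction.homEquiv_naturality_right, Equiv.apply_symm_apply]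
      apply (AddCommGrpCat.uliftZMultiplesAddEquiv _).injective
      refine Eq.trans ?_ ha
      exact congrArg ((E.map (EtCoh.push s)).g.hom.app (op (EtCoh.top X)))
        ((AddCommGrpCat.uliftZMultiplesAddEquiv _).apply_symm_apply a)
    rw [← hφ, ← Ext.mk₀_comp_mk₀, Ext.comp_assoc_of_second_deg_zero, hS.comp_extClass, Ext.comp_zero]
    rfl
  | succ n ih =>
    let E := ShortComplex.mk (Injective.ι G) (cokernel.π _) (cokernel.condition (Injective.ι G))
    have hE : E.ShortExact := { exact := ShortComplex.exact_of_g_is_cokernel _ (cokernelIsCokernel _) }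
    have hS := push_shortExact s hE
    haveI : Injective (E.map (EtCoh.push s)).X₂ :=
      Injective.injective_of_adjoint (EtCoh.pullPushAdj s) (Injective.under G)
    refine subsingleton_of_forall_eq 0 fun x => ?_
    obtain ⟨z, rfl⟩ := Ext.covariant_sequence_exact₁ _ hS x (Ext.eq_zero_of_injective _) (rfl : (n + 1) + 1 = _)
    haveI : Subsingleton (EtCoh.H X (E.map (EtCoh.push s)).X₃ (n + 1)) := ih E.X₃
    rw [Subsingleton.elim (α := EtCoh.H X (E.map (EtCoh.push s)).X₃ (n + 1)) z 0, Ext.zero_comp]
    rfl

/-- `R^{q+1}p_*` of a pushforward from a geometric point vanishes -/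
theorem isZero_rpush_push (p : X ⟶ Z) (q : ℕ) (G : EtCoh.Ab (Spec (CommRingCat.of k))) :
    IsZero ((EtCoh.Rpush p (q + 1)).obj ((EtCoh.push s).obj G)) := by
  haveI : (EtCoh.push s).Additive := (EtCoh.pullPushAdj s).right_adjoint_additive
  haveI : PreservesFiniteLimits (EtCoh.pull s) := pull_preservesFiniteLimits s
  let L := SESResLib.derivedLES (EtCoh.push p)
  induction q generalizing G with
  | zero =>
    let E₀ := ShortComplex.mk (Injective.ι G) (cokernel.π _) (cokernel.condition (Injective.ι G))
    have hE₀ : E₀.ShortExact := { exact := ShortComplex.exact_of_g_is_cokernel _ (cokernelIsCokernel _) }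
    let E := E₀.map (EtCoh.push s)
    have hE : E.ShortExact := push_shortExact s hE₀
    haveI : Injective E.X₂ := Injective.injective_of_adjoint (EtCoh.pullPushAdj s) (Injective.under G)
    haveI : Epi ((EtCoh.push p).map E.g) := by
      refine (sheafToPresheaf _ _).epi_of_epi_map ?_
      haveI : ∀ V, Epi (((sheafToPresheaf _ _).map ((EtCoh.push p).map E.g)).app V) := fun V =>
        (AddCommGrpCat.epi_iff_surjective _).2 (push_sections_surjective s hE₀ ((EtCoh.bc p).obj V.unop))
      exact NatTrans.epi_of_epi_app _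
    haveI he : Epi (((EtCoh.push p).rightDerived 0).map E.g) := by
      haveI : Epi ((EtCoh.push p).toRightDerivedZero.app E.X₂ ≫ ((EtCoh.push p).rightDerived 0).map E.g) := by
        rw [← (EtCoh.push p).toRightDerivedZero.naturality]
        exact epi_comp _ _
      exact epi_of_epi ((EtCoh.push p).toRightDerivedZero.app E.X₂) _
    have hδ : L.δ E hE 0 1 rfl = 0 := (cancel_epi (((EtCoh.push p).rightDerived 0).map E.g)).1
      ((L.comp_δ E hE 0 1 rfl).trans comp_zero.symm)
    have hm : Mono (((EtCoh.push p).rightDerived 1).map E.f) :=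
      (ShortComplex.exact_iff_mono _ hδ).1 (L.exact₁ E hE 0 1 rfl)
    exact @IsZero.of_mono _ _ _ _ _ (((EtCoh.push p).rightDerived 1).map E.f) hm
      ((EtCoh.push p).isZero_rightDerived_obj_injective_succ 0 E.X₂)
  | succ n ih =>
    let E₀ := ShortComplex.mk (Injective.ι G) (cokernel.π _) (cokernel.condition (Injective.ι G))
    have hE₀ : E₀.ShortExact := { exact := ShortComplex.exact_of_g_is_cokernel _ (cokernelIsCokernel _) }
    let E := E₀.map (EtCoh.push s)
    have hE : E.ShortExact := push_shortExact s hE₀
    haveI : Injective E.X₂ := Injective.injective_of_adjoint (EtCoh.pullPushAdj s) (Injective.under G)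
    exact (L.exact₁ E hE (n + 1) (n + 2) rfl).isZero_of_both_zeros
      ((ih E₀.X₃).eq_of_src _ _) (((EtCoh.push p).isZero_rightDerived_obj_injective_succ (n + 1) E.X₂).eq_of_tgt _ _)

end Groth.Agent.DescCrit
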